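import Groth.Agent.Lib.RDerLES.LES
import Mathlib.Algebra.Homology.Embedding.CochainComplex

/-! # Bounds on derived functors of complexes of injectives -/

set_option autoImplicit false
set_option backward.isDefEq.respectTransparency false
set_option linter.style.haveILetI false
set_option maxHeartbeats 1000000

universe v v' u u'

open CategoryTheory CategoryTheory.Limits HomologicalComplex

noncomputable section

namespace GrothLib.RDerBound20

variable {A : Type u} [Category.{v} A] [Abelian A] [HasInjectiveResolutions A]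
  {B : Type u'} [Category.{v'} B] [Abelian B] (F : A ⥤ B) [F.Additive]

omit [HasInjectiveResolutions A] [F.Additive] in
theorem isZero_of_exact {S : ShortComplex B} (hS : S.Exact) (h₁ : IsZero S.X₁) (h₃ : IsZero S.X₃) : IsZero S.X₂ :=
  hS.isZero_X₂ (h₁.eq_of_src _ _) (h₃.eq_of_tgt _ _)

theorem isZero_rightDerived_of_isZero (p : ℕ) {X : A} (hX : IsZero X) : IsZero ((F.rightDerived p).obj X) := by
  haveI : Injective X := hX.injective
  obtain _ | q := p
  · exact (F.map_isZero hX).of_iso (asIso (F.toRightDerivedZero.app X)).symm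
  · exact F.isZero_rightDerived_obj_injective_succ q X

variable (M : CochainComplex A ℤ) (hM : ∀ n, Injective (M.X n))

/-- Boundaries to cycles to homology. -/
def sesH (n : ℤ) : ShortComplex A :=
  ShortComplex.mk (kernel.ι (M.homologyπ n)) (M.homologyπ n) (kernel.condition _)

omit [HasInjectiveResolutions A] in
theorem sesH_shortExact (n : ℤ) : (sesH M n).ShortExact :=
  { exact := ShortComplex.exact_of_f_is_kernel _ (kernelIsKernel _)
    mono_f := inferInstanceAs (Mono (kernel.ι _))
    epi_g := inferInstanceAs (Epi (M.homologyπ n)) }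

/-- The map to the boundaries. -/
def toB (n n' : ℤ) : M.X n ⟶ kernel (M.homologyπ n') :=
  kernel.lift _ (M.toCycles n n') (M.toCycles_comp_homologyπ n n')

/-- Cycles to the term to boundaries. -/
def sesB (n n' : ℤ) (h : n + 1 = n') : ShortComplex A :=
  ShortComplex.mk (M.iCycles n) (toB M n n') (by
    subst h
    ext
    rw [Category.assoc, zero_comp, toB, kernel.lift_ι, ← cancel_mono (M.iCycles (n + 1)), Category.assoc,
      toCycles_i, zero_comp, iCycles_d])

omit [HasInjectiveResolutions A] in
theorem epi_toB (n n' : ℤ) (h : n + 1 = n') : Epi (toB M n n') := by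
  subst h
  exact (ShortComplex.exact_of_g_is_cokernel (ShortComplex.mk _ _ (M.toCycles_comp_homologyπ n (n + 1)))
    (M.homologyIsCokernel n (n + 1) (by simp))).epi_kernelLift

omit [HasInjectiveResolutions A] in
theorem sesB_shortExact (n n' : ℤ) (h : n + 1 = n') : (sesB M n n' h).ShortExact := by
  subst h
  haveI : Mono (sesB M n (n + 1) rfl).f := inferInstanceAs (Mono (M.iCycles n))
  refine { exact := ShortComplex.exact_of_f_is_kernel _ ?_
           mono_f := inferInstanceAs (Mono (M.iCycles n))
           epi_g := epi_toB M n (n + 1) rfl }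
  refine KernelFork.IsLimit.ofι' _ _ fun k hk => ⟨M.liftCycles k (n + 1) (by simp) ?_, liftCycles_i _ _ _ _ _⟩
  have h : (k ≫ (sesB M n (n + 1) rfl).g) ≫ kernel.ι (M.homologyπ (n + 1)) ≫ M.iCycles (n + 1) = 0 := by
    rw [hk, zero_comp]
  simpa [sesB, toB, toCycles_i] using h

section

variable (N : ℕ) (b : ℤ) (hH : ∀ n, n ≤ b → ∀ p, N ≤ p → IsZero ((F.rightDerived p).obj (M.homology n)))
  (hex : ∀ n, b < n → IsZero (M.homology n))

include hH hex in
theorem isZero_rightDerived_homology (p : ℕ) (n : ℤ) (h : N ≤ p ∨ b < n) :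
    IsZero ((F.rightDerived p).obj (M.homology n)) := by
  by_cases hn : b < n
  · exact isZero_rightDerived_of_isZero F p (hex n hn)
  · exact hH n (by omega) p (h.resolve_right hn)

include hM hH hex in
theorem isZero_rightDerived_cycles (a : ℤ) [M.IsStrictlyGE a] :
    ∀ (k : ℕ) (n : ℤ), n = a - 1 + k → ∀ p : ℕ, (N : ℤ) ≤ (p + 1 : ℤ) + max 0 (n - b) →
      IsZero ((F.rightDerived (p + 1)).obj (M.cycles n)) := by
  intro k
  induction k with
  | zero =>
    intro n hn p _
    exact isZero_rightDerived_of_isZero F _ ((M.isZero_of_isStrictlyGE a n (by omega)).of_mono (M.iCycles n))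
  | succ k ih =>
    intro n hn p hp
    obtain ⟨m, hm⟩ : ∃ m, m + 1 = n := ⟨n - 1, by omega⟩
    obtain ⟨T⟩ := RDerLES.nonempty_sesRes (sesB_shortExact M m n hm)
    haveI := hM m
    have hB : IsZero ((F.rightDerived (p + 1)).obj (kernel (M.homologyπ n))) :=
      isZero_of_exact (RDerLES.exact₃ F T (p + 1) (p + 2) rfl) (F.isZero_rightDerived_obj_injective_succ p (M.X m))
        (ih m (by omega) (p + 1) (by omega))
    obtain ⟨T'⟩ := RDerLES.nonempty_sesRes (sesH_shortExact M n)
    exact isZero_of_exact (RDerLES.exact₂ F T' (p + 1)) hB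
      (isZero_rightDerived_homology F M N b hH hex (p + 1) n (by omega))

/-- The degrees of a tail. -/
def deg (i : ℤ) : ℕ → ℤ
  | 0 => i
  | n + 1 => deg i n + 1

/-- The tail of a complex. -/
def tail (i : ℤ) : CochainComplex A ℕ where
  X n := M.X (deg i n)
  d n m := if n + 1 = m then M.d (deg i n) (deg i m) else 0
  shape n m h := if_neg h
  d_comp_d' n m k h h' := by
    obtain rfl : n + 1 = m := h
    obtain rfl : n + 1 + 1 = k := h'
    rw [if_pos rfl, if_pos rfl, d_comp_d]

omit [HasInjectiveResolutions A] in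
theorem tail_d (i : ℤ) (n : ℕ) : (tail M i).d n (n + 1) = M.d (deg i n) (deg i (n + 1)) := if_pos rfl

omit [HasInjectiveResolutions A] in
theorem deg_eq (i : ℤ) : ∀ n : ℕ, deg i n = i + n
  | 0 => (add_zero i).symm
  | n + 1 => by rw [deg, deg_eq i n]; push_cast; omega

/-- The resolution of the cycles in degree `i` by the tail. -/
def tailRes (i : ℤ) (hi : ∀ n, i < n → M.ExactAt n) : InjectiveResolution (M.cycles i) where
  cocomplex := tail M i
  injective n := hM (deg i n)
  ι := (CochainComplex.fromSingle₀Equiv _ _).symm ⟨M.iCycles i, by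
    rw [tail_d]; exact M.iCycles_d i _⟩
  quasiIso := ⟨fun n => by
    match n with
    | 0 =>
      rw [CochainComplex.quasiIsoAt₀_iff, ShortComplex.quasiIso_iff_of_zeros]
      · refine (ShortComplex.exact_and_mono_f_iff_of_iso (S₂ := ShortComplex.mk (M.iCycles i) (M.d i (i + 1))
          (M.iCycles_d i _)) ?_).2 ⟨ShortComplex.exact_of_f_is_kernel _ (M.cyclesIsKernel i (i + 1) (by simp)),
            inferInstanceAs (Mono (M.iCycles i))⟩
        refine ShortComplex.isoMk (Iso.refl _) (Iso.refl _) (Iso.refl _) ?_ ?_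
        · simp [CochainComplex.fromSingle₀Equiv]
        · exact (Category.id_comp _).trans ((tail_d M i 0).symm.trans (Category.comp_id _).symm)
      all_goals rfl
    | n + 1 =>
      rw [quasiIsoAt_iff_exactAt _ _ (CochainComplex.exactAt_succ_single_obj _ _),
        HomologicalComplex.exactAt_iff' _ n (n + 1) (n + 2) (by simp) (by simp)]
      have h := hi (deg i (n + 1)) (by rw [deg_eq]; push_cast; omega)
      rw [HomologicalComplex.exactAt_iff' _ (deg i n) (deg i (n + 1)) (deg i (n + 2)) (by simp [deg])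
        (by simp [deg])] at h
      refine (ShortComplex.exact_iff_of_iso ?_).2 h
      exact ShortComplex.isoMk (Iso.refl _) (Iso.refl _) (Iso.refl _)
        ((Category.id_comp _).trans ((tail_d M i n).symm.trans (Category.comp_id _).symm))
        ((Category.id_comp _).trans ((tail_d M i (n + 1)).symm.trans (Category.comp_id _).symm))⟩

include hM hH hex in
theorem exactAt_map (a : ℤ) [M.IsStrictlyGE a] (i : ℤ) (hi : b + N ≤ i) :
    ((F.mapHomologicalComplex (ComplexShape.up ℤ)).obj M).ExactAt i := by
  by_cases hia : i < a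
  · rw [exactAt_iff_isZero_homology]
    exact ShortComplex.isZero_homology_of_isZero_X₂ _ (F.map_isZero (M.isZero_of_isStrictlyGE a i hia))
  obtain ⟨m, hm⟩ : ∃ m, m + 1 = i := ⟨i - 1, by omega⟩
  obtain ⟨k, hk⟩ : ∃ k : ℕ, m = a - 1 + k := ⟨(m - (a - 1)).toNat, by omega⟩
  obtain ⟨T⟩ := RDerLES.nonempty_sesRes (sesB_shortExact M m i hm)
  obtain ⟨T'⟩ := RDerLES.nonempty_sesRes (sesH_shortExact M i)
  have e₁ : Epi ((F.rightDerived 0).map (toB M m i)) :=
    (RDerLES.exact₃ F T 0 1 rfl).epi_f
      ((isZero_rightDerived_cycles F M hM N b hH hex a k m hk 0 (by omega)).eq_of_tgt _ _)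
  have e₂ : Epi ((F.rightDerived 0).map (kernel.ι (M.homologyπ i))) :=
    (RDerLES.exact₂ F T' 0).epi_f
      ((isZero_rightDerived_homology F M N b hH hex 0 i (by omega)).eq_of_tgt _ _)
  let R := tailRes M hM i fun n hn => (exactAt_iff_isZero_homology M n).2 (hex n (by omega))
  let p := M.toCycles m i
  have hp : Epi ((F.rightDerived 0).map p) := by
    rw [show p = toB M m i ≫ kernel.ι (M.homologyπ i) from (kernel.lift_ι _ _ _).symm, Functor.map_comp]
    exact epi_comp _ _
  haveI := hM m
  have h1 : Epi (F.map p ≫ R.toRightDerivedZero' F) := by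
    have h2 : Epi (F.map p ≫ F.toRightDerivedZero.app (M.cycles i)) := by
      rw [F.toRightDerivedZero.naturality p]; exact epi_comp _ _
    rw [R.toRightDerivedZero_eq F, ← Category.assoc] at h2
    haveI := h2
    have h3 : F.map p ≫ R.toRightDerivedZero' F = ((F.map p ≫ R.toRightDerivedZero' F) ≫
        (CochainComplex.isoHomologyπ₀ _).hom ≫ (R.isoRightDerivedObj F 0).inv) ≫
        (R.isoRightDerivedObj F 0).hom ≫ (CochainComplex.isoHomologyπ₀ _).inv := by simp
    rw [h3]
    exact epi_comp _ _
  rw [exactAt_iff' _ m i (i + 1) (by simp; omega) (by simp)]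
  let K := (F.mapHomologicalComplex (ComplexShape.up ℕ)).obj R.cocomplex
  have hker : IsLimit (KernelFork.ofι (K.iCycles 0) (show K.iCycles 0 ≫ F.map (M.d i (i + 1)) = 0 by
      have h := K.iCycles_d 0 1
      rwa [show K.d 0 1 = F.map (M.d i (i + 1)) from congrArg F.map (tail_d M i 0)] at h)) :=
    IsKernel.ofCompIso _ _ (Iso.refl _) (by
      rw [Iso.refl_hom, Category.comp_id]; exact (congrArg F.map (tail_d M i 0))) (K.cyclesIsKernel 0 1 (by simp))
  let S := ((F.mapHomologicalComplex (ComplexShape.up ℤ)).obj M).sc' m i (i + 1)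
  refine ShortComplex.exact_iff_epi_toCycles S |>.2 ?_
  let e : S.cycles ≅ K.cycles 0 := IsLimit.conePointUniqueUpToIso S.cyclesIsKernel hker
  have he : S.toCycles ≫ e.hom = F.map p ≫ R.toRightDerivedZero' F := by
    rw [← cancel_mono (K.iCycles 0), Category.assoc, Category.assoc,
      InjectiveResolution.toRightDerivedZero'_comp_iCycles]
    refine ((congrArg (S.toCycles ≫ ·) (IsLimit.conePointUniqueUpToIso_hom_comp _ hker WalkingParallelPair.zero)).trans
      S.toCycles_i).trans ?_
    have hι : R.ι.f 0 = M.iCycles i := by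
      simp [R, tailRes, CochainComplex.fromSingle₀Equiv]
    rw [hι]
    show F.map (M.d m i) = F.map p ≫ F.map (M.iCycles i)
    rw [← F.map_comp, toCycles_i]
  haveI := h1
  have h4 : Epi (S.toCycles ≫ e.hom) := he.symm ▸ h1
  haveI := h4
  rw [show S.toCycles = (S.toCycles ≫ e.hom) ≫ e.inv by simp]
  exact epi_comp _ _

end

end GrothLib.RDerBound20
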