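import Groth.Agent.Lib.RDerBound20.Abstract
import Groth.Agent.Lib.CohDer19.InjAmp
import Groth.Agent.Lib.KInj.Derived
import Groth.Agent.Lib.OX.Exact
import Groth.Prelude.Def_DCoh2

/-! # Cohomological bounds of total right derived functors on quasi-coherent cohomology -/

set_option autoImplicit false
set_option backward.isDefEq.respectTransparency false
set_option linter.style.haveILetI false
set_option maxHeartbeats 1000000
universe u

open CategoryTheory CategoryTheory.Limits AlgebraicGeometry
attribute [local instance] HasDerivedCategory.standard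

noncomputable section

namespace GrothLib.RDerBound20

variable {X : Scheme.{u}} (F : X.Modules ⥤ AddCommGrpCat.{u}) [F.Additive] [HasInjectiveResolutions X.Modules]
    [(F.mapHomotopyCategory (ComplexShape.up ℤ) ⋙ DerivedCategory.Qh).HasRightDerivedFunctor
      (HomotopyCategory.quasiIso X.Modules (ComplexShape.up ℤ))]

theorem isZero_homology_totalRightDerived (N : ℕ)
    (hF : ∀ G : X.Modules, Coh.IsQCoh G → ∀ p : ℕ, N ≤ p → IsZero ((F.rightDerived p).obj G))
    (E : DCoh.D X) (hE : DCoh.IsQCohD E) (a b : ℤ) (hab : ∀ i : ℤ, i < a ∨ b < i → IsZero (DCoh.HD E i))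
    (i : ℤ) (hi : i < a ∨ b + N - 1 < i) :
    IsZero ((DerivedCategory.homologyFunctor AddCommGrpCat.{u} i).obj
      (((F.mapHomotopyCategory (ComplexShape.up ℤ) ⋙ DerivedCategory.Qh).totalRightDerived DerivedCategory.Qh
        (HomotopyCategory.quasiIso X.Modules (ComplexShape.up ℤ))).obj E)) := by
  haveI : IsGrothendieckAbelian.{u} X.Modules := inferInstance
  haveI : E.IsGE a := (DerivedCategory.isGE_iff E a).2 fun j hj => hab j (Or.inl hj)
  obtain ⟨M, hMge, hM, ⟨eM⟩⟩ := CohDer19.InjAmp.exists_injective_rep E a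
  haveI : M.IsKInjective := CochainComplex.isKInjective_of_injective M a
  let G := F.mapHomotopyCategory (ComplexShape.up ℤ) ⋙ DerivedCategory.Qh
  let qM := (HomotopyCategory.quotient X.Modules (ComplexShape.up ℤ)).obj M
  haveI := KInj.isIso_unit_of_rightOrthogonal (X := qM) (CochainComplex.IsKInjective.rightOrthogonal M)
  let eR : (G.totalRightDerived DerivedCategory.Qh (HomotopyCategory.quasiIso X.Modules (ComplexShape.up ℤ))).obj E ≅
      G.obj qM :=
    (G.totalRightDerived DerivedCategory.Qh (HomotopyCategory.quasiIso X.Modules (ComplexShape.up ℤ))).mapIso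
      (eM.symm ≪≫ ((DerivedCategory.quotientCompQhIso X.Modules).app M).symm) ≪≫
      (KInj.totalRightDerivedIso G).app _ ≪≫ (asIso (G.map ((KInj.resAdj X.Modules).unit.app qM))).symm
  let FM := (F.mapHomologicalComplex (ComplexShape.up ℤ)).obj M
  let eQ : G.obj qM ≅ DerivedCategory.Q.obj FM :=
    DerivedCategory.Qh.mapIso ((F.mapHomotopyCategoryFactors (ComplexShape.up ℤ)).app M) ≪≫
      (DerivedCategory.quotientCompQhIso AddCommGrpCat.{u}).app FM
  refine IsZero.of_iso ?_ ((DerivedCategory.homologyFunctor AddCommGrpCat.{u} i).mapIso (eR ≪≫ eQ) ≪≫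
    (DerivedCategory.homologyFunctorFactors AddCommGrpCat.{u} i).app FM)
  show IsZero (FM.homology i)
  have hHD : ∀ n, DCoh.HD E n ≅ M.homology n := fun n =>
    (DerivedCategory.homologyFunctor X.Modules n).mapIso eM.symm ≪≫
      (DerivedCategory.homologyFunctorFactors X.Modules n).app M
  rcases hi with hia | hib
  · exact ShortComplex.isZero_homology_of_isZero_X₂ _ (F.map_isZero (M.isZero_of_isStrictlyGE a i hia))
  · rw [← HomologicalComplex.exactAt_iff_isZero_homology]
    refine exactAt_map F M hM N b (fun n _ p hp => hF _ ?_ p hp) (fun n hn => (hab n (Or.inr hn)).of_iso (hHD n).symm)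
      a i (by omega)
    exact (SheafOfModules.isQuasicoherent X.ringCatSheaf).prop_of_iso (hHD n) (hE n)

end GrothLib.RDerBound20
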